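import Cfsg.Agent.H351.UnfE7.PairW_m3
import Cfsg.Agent.H351.UnfE7.Desc
import Cfsg.Agent.H720.RowsNeg_m3
import Cfsg.Agent.H129.TorusUntw
import Cfsg.Agent.H238.ExcCore
import Cfsg.Agent.FastGrp
import Cfsg.Agent.Prune
set_option linter.all false

section
prune_inst 0x7ffdfffbbff8ffffdfff7e7ffedfdffe39d35fffefdffd4bffe8e5ff3fdf23022dc56bad8de052fe1ef7e29c90ba7853ffffffffea6bfe7ffffd5ff41ffbee4ff5f7b50871dd8cb40fbc0ff703f0778e7f3fffffffffffffffffffffffffffbeffffffffffff

-- part: H351/UnfE7/Toral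
section
prune_inst 0x4400400002000018000202001c62ca000000002b0001412008000dc88d20a901272138d01200805222540078800000000150401000000a00880041180080042a10020100a100240088009804000000000000000000000000000000000000000000000
set_option linter.all false
open scoped Cfsg.Agent.FastGrp

/-!
# Involutions of `E₇(k)`, `k` algebraically closed of odd characteristic (helper351, S3026)

* `Std k j t` : the torus element `t` with value `-1` on the `j`-th simple root and `1` on the others;
* `exists_std` : every involution of the torus is conjugate to `t` with `Std k j t`, `j = 0, 1` or `6`;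
* `exists_pair` : the pair reduction;
* `fixed_conj` : two fixed points of `σ` with the same reduced pair are conjugate under the fixed points of `σ`.
-/

set_option autoImplicit false
set_option linter.unusedSectionVars false

namespace Cfsg.Agent.H351.UnfE7

open CoxeterSystem Cfsg Cfsg.Lie Cfsg.Lie.ChevalleyDatum
open Cfsg.Agent.ChevalleyStructure Cfsg.Agent.ChevalleyStructure.Elts Cfsg.Agent.ChevalleyStructure.CoxeterGeom
  Cfsg.Agent.ChevalleyStructure.CoxeterGeomTypes Cfsg.Agent.ChevalleyStructure.NPerm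
open Cfsg.Agent.Tits.Roots Cfsg.Agent.Tits.Core Cfsg.Agent.Nodes Cfsg.Agent.Nodes.Reps Cfsg.Agent.Nodes.BNOf
  Cfsg.Agent.Nodes.RGDChev Cfsg.Agent.Nodes.Bruhat Cfsg.Agent.Nodes.SubComb Cfsg.Agent.Nodes.Coroot
open Cfsg.Agent.KFacts.RgdField Cfsg.Agent.KFacts.RgdChevCoord Cfsg.Agent.BpExc.TorCent Cfsg.Agent.BpExc.TorChev
open Cfsg.Agent.GpExc.Field Cfsg.Agent.BpExc.Tow Cfsg.Agent.BpExc.TowChev Cfsg.Agent.BpExc.Fr
  Cfsg.Agent.BpExc.LangFr Cfsg.Agent.LangThm Cfsg.Agent.BpExc Cfsg.Agent.H129.TorusChar Cfsg.Agent.H129.TorusCent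
  Cfsg.Agent.H129.TorusTw Cfsg.Agent.H129.TorusMain Cfsg.Agent.H129.TorusUntw Cfsg.Agent.H129.WForm
  Cfsg.Agent.H720.TorusReal

universe u

/-! ### masks -/

/-- the neighbours of a node -/
def nb : Fin 7 → ℕ := ![4, 8, 9, 22, 40, 80, 32]

/-- the action of the `j`-th reflection on the set of the simple roots with value `-1` -/
def mv (j : Fin 7) (m : ℕ) : ℕ := if m.testBit j then m ^^^ nb j else m

def nxt (m : ℕ) : Fin 7 := ([0, 6, 6, 0, 2, 0, 1, 2, 3, 3, 1, 0, 2, 3, 3, 2, 4, 0, 1, 4, 2, 2, 4, 4, 4, 3, 3, 4, 3, 3,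
  4, 4, 5, 0, 1, 1, 5, 2, 2, 1, 5, 5, 3, 3, 3, 5, 2, 3, 5, 4, 4, 5, 4, 4, 5, 5, 3, 4, 4, 5, 4, 4, 5, 5, 0, 6, 6, 1,
  6, 6, 2, 1, 3, 6, 6, 3, 6, 6, 2, 3, 6, 6, 4, 4, 4, 6, 6, 4, 3, 4, 6, 6, 6, 4, 4, 6, 6, 5, 5, 6, 5, 5, 6, 6, 5, 5,
  5, 6, 5, 5, 6, 6, 4, 5, 5, 5, 6, 5, 5, 5, 6, 6, 5, 5, 5, 6, 5, 5] : List (Fin 7)).getD m 0

theorem mv_bit : ∀ m < 128, ∀ j i : Fin 7, (mv j m).testBit i = (m.testBit i ^^ (m.testBit j && decide (A7 j i % 2 = 1))) := by
  decide +kernel

theorem mv_lt : ∀ m < 128, ∀ j : Fin 7, mv j m < 128 := by decide +kernel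

theorem iter_std : ∀ m < 128, m ≠ 0 → (fun m => mv (nxt m) m)^[16] m = 1 ∨ (fun m => mv (nxt m) m)^[16] m = 2 ∨
    (fun m => mv (nxt m) m)^[16] m = 64 := by decide +kernel

def toMask (v : Fin 7 → Bool) : ℕ := ∑ i : Fin 7, if v i then 2 ^ (i : ℕ) else 0

theorem toMask_bit : ∀ v : Fin 7 → Bool, toMask v < 128 ∧ ∀ i : Fin 7, (toMask v).testBit i = v i := by decide +kernel

section

variable {k : Type u} [Field k]

/-- the torus element whose set of simple roots with value `-1` is `m` -/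
def HasMask (t : ↥(chevE7.group k)) (m : ℕ) : Prop :=
  t ∈ TT chevE7 k ∧ ∀ i : Fin 7, cX hp7 t (sr i) = if m.testBit i then -1 else 1

/-- value `-1` on the `j`-th simple root, `1` on the others -/
def Std (k : Type u) [Field k] (j : Fin 7) (t : ↥(chevE7.group k)) : Prop :=
  t ∈ TT chevE7 k ∧ ∀ i, cX hp7 t (sr i) = if i = j then -1 else 1

theorem Std.cX {j : Fin 7} {t : ↥(chevE7.group k)} (h : Std k j t) (x : Fin 7 → ℤ) : cX hp7 t x = (-1) ^ x j := by
  rw [(isMC_cX hp7 h.1).eq_prod, Finset.prod_eq_single j]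
  · rw [h.2, if_pos rfl]
  · intro i _ hi
    rw [h.2, if_neg hi, one_zpow]
  · intro hj
    exact absurd (Finset.mem_univ j) hj

theorem Std.eq {j : Fin 7} {s t : ↥(chevE7.group k)} (hs : Std k j s) (ht : Std k j t) : s = t :=
  cX_inj hp7 hs.1 ht.1 fun i => by rw [hs.2, ht.2]

theorem HasMask.std {t : ↥(chevE7.group k)} {m : ℕ} (h : HasMask t m) (j : Fin 7) (hm : m = 2 ^ (j : ℕ)) : Std k j t := by
  refine ⟨h.1, fun i => ?_⟩
  rw [h.2, hm, Nat.testBit_two_pow]
  by_cases hij : i = j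
  · subst hij; simp
  · rw [if_neg hij, if_neg]
    rw [decide_eq_true_eq]
    exact fun h => hij (Fin.ext h.symm)

theorem neg_one_zpow_mod (a : ℤ) : ((-1 : k)) ^ a = if a % 2 = 1 then -1 else 1 := by
  rcases Int.emod_two_eq_zero_or_one a with h | h
  · rw [if_neg (by omega)]
    exact Even.neg_one_zpow (Int.even_iff.2 h)
  · rw [if_pos h]
    exact Odd.neg_one_zpow (Int.odd_iff.2 h)

/-- a reflection -/
theorem HasMask.step {W : Type*} [Group W] (cs : CoxeterSystem CoxeterMatrix.E₇ W) (hk : LocFin k) (p : ℕ)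
    [Fact p.Prime] [CharP k p] {t : ↥(chevE7.group k)} {m : ℕ} (hm : m < 128) (h : HasMask t m) (j : Fin 7) :
    HasMask (nc hp7 k j * t * (nc hp7 k j)⁻¹) (mv j m) := by
  have hN := nsys_of_locFin hp7 cs hk p
  have hn := rp_simple cs hN j
  have ht' : nc hp7 k j * t * (nc hp7 k j)⁻¹ ∈ TT chevE7 k := (Subgroup.mem_normalizer_iff.1 hn.mem_normalizer t).1 h.1
  refine ⟨ht', fun i => ?_⟩
  have e1 : sr i = rep cs hp7.isCartan (cs.simple j) (rep cs hp7.isCartan (cs.simple j) (sr i)) := by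
    rw [← rep_mul_apply, cs.simple_mul_simple_self, map_one]; rfl
  have h1 : cX hp7 (nc hp7 k j * t * (nc hp7 k j)⁻¹) (sr i) = cX hp7 t (rep cs hp7.isCartan (cs.simple j) (sr i)) := by
    conv_lhs => rw [e1]
    exact cX_rp hp7 cs hk p hn h.1 _
  rw [h1, rep_simple_eq, pairing_sr, ← hA7, (isMC_cX hp7 h.1).sub, (isMC_cX hp7 h.1).zsmul, h.2, h.2, mv_bit m hm j i]
  cases h3 : m.testBit (j : ℕ)
  · simp
  · rw [if_pos rfl, neg_one_zpow_mod]
    by_cases h4 : A7 j i % 2 = 1
    · rw [if_pos h4, decide_eq_true h4]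
      cases m.testBit (i : ℕ) <;> simp
    · rw [if_neg h4, decide_eq_false h4]
      cases m.testBit (i : ℕ) <;> simp

/-- **The involutions of the torus.** -/
theorem exists_std (hk : LocFin k) (p : ℕ) [Fact p.Prime] [CharP k p] {t : ↥(chevE7.group k)} (ht : t ∈ TT chevE7 k)
    (h2 : t * t = 1) (h1 : t ≠ 1) : ∃ g : ↥(chevE7.group k), ∃ j : Fin 7, (j = 0 ∨ j = 1 ∨ j = 6) ∧
      Std k j (g * t * g⁻¹) := by
  classical
  have hval : ∀ i : Fin 7, cX hp7 t (sr i) = 1 ∨ cX hp7 t (sr i) = -1 := by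
    intro i
    have h3 := cX_mul hp7 ht ht (sr i)
    rw [h2, cX_one] at h3
    exact mul_self_eq_one_iff.1 h3.symm
  obtain ⟨v, hv⟩ : ∃ v : Fin 7 → Bool, v = fun i => decide (cX hp7 t (sr i) = -1) := ⟨_, rfl⟩
  obtain ⟨hlt, hbit⟩ := toMask_bit v
  have h0 : HasMask t (toMask v) := by
    refine ⟨ht, fun i => ?_⟩
    rw [hbit, hv]
    by_cases h4 : cX hp7 t (sr i) = -1
    · simp [h4]
    · rcases hval i with h5 | h5
      · rw [if_neg]
        · exact h5
        · simpa using h4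
      · exact absurd h5 h4
  have hne : toMask v ≠ 0 := by
    intro h3
    apply h1
    refine cX_inj hp7 ht (one_mem _) fun i => ?_
    have h4 := h0.2 i
    rw [h3, Nat.zero_testBit] at h4
    rw [h4, cX_one]; rfl
  have key : ∀ n : ℕ, ∃ g : ↥(chevE7.group k), (fun m => mv (nxt m) m)^[n] (toMask v) < 128 ∧
      HasMask (g * t * g⁻¹) ((fun m => mv (nxt m) m)^[n] (toMask v)) := by
    intro n
    induction n with
    | zero => exact ⟨1, hlt, by simpa using h0⟩
    | succ n ih =>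
      obtain ⟨g, hg, h5⟩ := ih
      rw [Function.iterate_succ_apply']
      refine ⟨nc hp7 k (nxt ((fun m => mv (nxt m) m)^[n] (toMask v))) * g, mv_lt _ hg _, ?_⟩
      have h6 := h5.step CoxeterMatrix.E₇.toCoxeterSystem hk p hg (nxt ((fun m => mv (nxt m) m)^[n] (toMask v)))
      rw [show ∀ n g : ↥(chevE7.group k), n * g * t * (n * g)⁻¹ = n * (g * t * g⁻¹) * n⁻¹ by intros; group]
      exact h6
  obtain ⟨g, -, h5⟩ := key 16
  rcases iter_std _ hlt hne with h6 | h6 | h6
  · exact ⟨g, 0, Or.inl rfl, h5.std 0 (by rw [h6]; rfl)⟩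
  · exact ⟨g, 1, Or.inr (Or.inl rfl), h5.std 1 (by rw [h6]; rfl)⟩
  · exact ⟨g, 6, Or.inr (Or.inr rfl), h5.std 6 (by rw [h6]; rfl)⟩

end

end Cfsg.Agent.H351.UnfE7

private theorem dce_ded5049e26e7 : _root_.True := by
  try have : _root_.True := by simp only [_root_.Cfsg.Agent.H129.TorusChar.cX.congr_simp]
  exact _root_.True.intro
end

-- part: H351/UnfE7/Pairs
section
prune_inst 0x20004400000002000018000202001c628a00000000280001502008000486dd222900212078401800800232540038000000000150400800000a000400011900a080aa50022300a10424008f802084000000000000000000000000000000041000000000000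
set_option linter.all false
open scoped Cfsg.Agent.FastGrp

/-!
# Involutions of `E₇(k)` fixed by a Frobenius automorphism (helper351, S3026)

* `exists_pair` : the pair reduction with the conditions `Pres` on the Weyl group element;
* `fixed_conj` : two fixed points of `σ` with the same reduced pair are conjugate under the fixed points of `σ`.
-/

set_option autoImplicit false
set_option linter.unusedSectionVars false

namespace Cfsg.Agent.H351.UnfE7

open CoxeterSystem Cfsg Cfsg.Lie Cfsg.Lie.ChevalleyDatum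
open Cfsg.Agent.ChevalleyStructure Cfsg.Agent.ChevalleyStructure.Elts Cfsg.Agent.ChevalleyStructure.CoxeterGeom
  Cfsg.Agent.ChevalleyStructure.CoxeterGeomTypes Cfsg.Agent.ChevalleyStructure.NPerm
open Cfsg.Agent.Tits.Roots Cfsg.Agent.Tits.Core Cfsg.Agent.Nodes Cfsg.Agent.Nodes.Reps Cfsg.Agent.Nodes.BNOf
  Cfsg.Agent.Nodes.RGDChev Cfsg.Agent.Nodes.Bruhat Cfsg.Agent.Nodes.SubComb Cfsg.Agent.Nodes.Coroot
open Cfsg.Agent.KFacts.RgdField Cfsg.Agent.KFacts.RgdChevCoord Cfsg.Agent.BpExc.TorCent Cfsg.Agent.BpExc.TorChev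
open Cfsg.Agent.GpExc.Field Cfsg.Agent.BpExc.Tow Cfsg.Agent.BpExc.TowChev Cfsg.Agent.BpExc.Fr
  Cfsg.Agent.BpExc.LangFr Cfsg.Agent.LangThm Cfsg.Agent.BpExc Cfsg.Agent.H129.TorusChar Cfsg.Agent.H129.TorusCent
  Cfsg.Agent.H129.TorusTw Cfsg.Agent.H129.TorusMain Cfsg.Agent.H129.TorusUntw Cfsg.Agent.H129.WForm
  Cfsg.Agent.H720.TorusReal

universe u v

section

variable {k : Type u} [Field k] [IsAlgClosed k] {p e : ℕ} [Fact p.Prime] [CharP k p] {σ : MulAut ↥(chevE7.group k)}
  {W : Type v} [Group W] [Finite W] (cs : CoxeterSystem CoxeterMatrix.E₇ W)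

/-- `x` is conjugate by `c` to `t`, `c⁻¹ σ(c)` acts as `w`. -/
structure RedPair (σ : MulAut ↥(chevE7.group k)) (j : Fin 7) (w : W) (x t c : ↥(chevE7.group k)) : Prop where
  std : Std k j t
  conj : c⁻¹ * x * c = t
  fr : Fr cs hp7.isCartan (TT chevE7 k) (XX chevE7 7 k) (MulAut.conj (c⁻¹ * σ c) * σ) (repAut cs hp7.isCartan w)
  pres : Pres cs j w

/-- **The pair reduction.** -/
theorem exists_pair (hk : LocFin k) (hp2 : p ≠ 2) (he : 0 < e) (hσ : IsFrob p e σ)
    (F : Fr cs hp7.isCartan (TT chevE7 k) (XX chevE7 7 k) σ (AddEquiv.refl _)) {x z : ↥(chevE7.group k)}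
    (hx : σ x = x) {j : Fin 7} (hz : Std k j (z * x * z⁻¹)) : ∃ (w : W) (c : ↥(chevE7.group k)),
      RedPair cs σ j w x (z * x * z⁻¹) c := by
  have hpp : p.Prime := Fact.out
  have hodd : Odd (p ^ e) := (hpp.odd_of_ne_two hp2).pow
  have h11 : (1 : k) ≠ -1 := by
    intro h1
    have h2 : ((2 : ℕ) : k) = 0 := by
      push_cast
      linear_combination h1
    rw [CharP.cast_eq_zero_iff k p] at h2
    exact hp2 ((Nat.prime_dvd_prime_iff_eq hpp Nat.prime_two).1 h2)
  obtain ⟨c, k', g', h1, h2, h3, h4, h5, h6, w, v, h7⟩ :=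
    Cfsg.Agent.H351.PairW.exists_pair_conj_w hp7 cs hk he hσ F hx (z := z) hz.1
  have hg : g' = repAut cs hp7.isCartan (w * v) := by
    apply AddEquiv.ext
    intro y
    rw [h7, repAut_apply, rep_mul_apply]
    rfl
  subst h2
  rw [hg] at h4
  have hpar : ∀ y : Fin 7 → ℤ, (rep cs hp7.isCartan (w * v) y j) % 2 = y j % 2 := by
    intro y
    have h8 := cX_sigma hp7 cs h3 h4 hz.1 y
    rw [h5, hz.cX, hz.cX, repAut_apply, neg_one_zpow_mod, neg_one_zpow_mod] at h8
    rcases Int.emod_two_eq_zero_or_one (y j) with h9 | h9 <;>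
      rcases Int.emod_two_eq_zero_or_one (rep cs hp7.isCartan (w * v) y j) with h10 | h10
    · rw [h9, h10]
    · rw [if_pos h10, if_neg (by omega), one_pow] at h8
      exact absurd h8.symm h11
    · rw [if_neg (by omega), if_pos h9, hodd.neg_one_pow] at h8
      exact absurd h8 h11
    · rw [h9, h10]
  refine ⟨w * v, c, hz, h1, h4, hpar, fun a ha h8 h9 => ?_⟩
  have h10 := h6 a ⟨ha, ?_⟩ h9
  · rwa [hg, repAut_apply] at h10
  · rw [← cX_root hp7 cs hz.1 ha, hz.cX, neg_one_zpow_mod, if_neg (by omega)]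

/-- **Conjugacy under the fixed points.** -/
theorem fixed_conj (hk : LocFin k) (he : 0 < e) (hσ : IsFrob p e σ) {j : Fin 7} {w : W}
    {x y t c₁ c₂ : ↥(chevE7.group k)} (h₁ : RedPair cs σ j w x t c₁) (h₂ : RedPair cs σ j w y t c₂) :
    ∃ a : ↥(chevE7.group k), σ a = a ∧ a * y * a⁻¹ = x := by
  obtain ⟨k₁, hk₁⟩ : ∃ k₁, k₁ = c₁⁻¹ * σ c₁ := ⟨_, rfl⟩
  obtain ⟨k₂, hk₂⟩ : ∃ k₂, k₂ = c₂⁻¹ * σ c₂ := ⟨_, rfl⟩
  have F₁ := h₁.fr
  have F₂ := h₂.fr
  rw [← hk₁] at F₁
  rw [← hk₂] at F₂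
  obtain ⟨s, hs⟩ : ∃ s, s = k₁ * k₂⁻¹ := ⟨_, rfl⟩
  have hsT : s ∈ TT chevE7 k := by
    have F3 := F₁.mul F₂.inv
    have e1 : MulAut.conj k₁ * σ * (MulAut.conj k₂ * σ)⁻¹ = MulAut.conj s := by
      rw [hs, map_mul, map_inv]
      group
    rw [e1] at F3
    refine mem_TT_of_fr hp7 cs hk p invC_E7 (by norm_num) (fun x => ?_) F3
    show repAut cs hp7.isCartan w ((repAut cs hp7.isCartan w).symm x) = x
    exact AddEquiv.apply_symm_apply _ _
  obtain ⟨u, hu, h1⟩ := torus_lang hp7 cs he (hσ.conj_mul k₂) F₂ invC_E7 (by norm_num) hsT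
  have h2 : u = s * (k₂ * σ u * k₂⁻¹) := h1
  have h3 : k₁ = s * k₂ := by rw [hs]; group
  have hσ₁ : σ c₁ = c₁ * k₁ := by rw [hk₁]; group
  have hσ₂ : σ c₂ = c₂ * k₂ := by rw [hk₂]; group
  have hut : u * t = t * u := TT_comm hp7 hu h₁.std.1
  refine ⟨c₁ * u * c₂⁻¹, ?_, ?_⟩
  · rw [map_mul, map_mul, map_inv, hσ₁, hσ₂, h3]
    calc c₁ * (s * k₂) * σ u * (c₂ * k₂)⁻¹ = c₁ * (s * (k₂ * σ u * k₂⁻¹)) * c₂⁻¹ := by group
      _ = c₁ * u * c₂⁻¹ := by rw [← h2]
  · have h4 : y = c₂ * t * c₂⁻¹ := by rw [← h₂.conj]; group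
    have h5 : x = c₁ * t * c₁⁻¹ := by rw [← h₁.conj]; group
    rw [h4, h5]
    calc c₁ * u * c₂⁻¹ * (c₂ * t * c₂⁻¹) * (c₁ * u * c₂⁻¹)⁻¹ = c₁ * (u * t) * u⁻¹ * c₁⁻¹ := by group
      _ = c₁ * t * c₁⁻¹ := by rw [hut]; group

end

end Cfsg.Agent.H351.UnfE7
end

-- part: H351/UnfE7/Phi
section
prune_inst 0x4000400002000018000000000020000001020000000051000000014e10022901000140000810000014000000000000000000000000000000040000010000008000022000010020008e003080000000000000000000000000000000041000000000000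
set_option linter.all false
open scoped Cfsg.Agent.FastGrp

/-!
# The diagonal `SL₂` of a set of orthogonal roots of `E₇` (helper351, S3026)

* `phr K r : SL₂(K) →* E₇(K)`, the `SL₂` of the root with index `r`; `emb_phr` : field embeddings; `phr_comm` : orthogonal
  roots; `phr_H` : the diagonal elements;
* `Phi K hL` : the product over a list `L` of orthogonal roots; `Phi_H` : the diagonal elements.
-/

set_option autoImplicit false
set_option linter.unusedSectionVars false

namespace Cfsg.Agent.H351.UnfE7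

open CoxeterSystem Cfsg Cfsg.Lie Cfsg.Lie.ChevalleyDatum
open Cfsg.Agent.ChevalleyStructure Cfsg.Agent.ChevalleyStructure.Elts Cfsg.Agent.ChevalleyStructure.CoxeterGeom
  Cfsg.Agent.ChevalleyStructure.CoxeterGeomTypes Cfsg.Agent.ChevalleyStructure.NPerm
open Cfsg.Agent.Tits.Roots Cfsg.Agent.Tits.Core Cfsg.Agent.Nodes Cfsg.Agent.Nodes.Reps Cfsg.Agent.Nodes.BNOf
  Cfsg.Agent.Nodes.RGDChev Cfsg.Agent.Nodes.Bruhat Cfsg.Agent.Nodes.SubComb Cfsg.Agent.Nodes.Coroot
open Cfsg.Agent.KFacts.RgdField Cfsg.Agent.KFacts.RgdChevCoord Cfsg.Agent.BpExc.TorCent Cfsg.Agent.BpExc.TorChev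
open Cfsg.Agent.GpExc.Field Cfsg.Agent.BpExc.Tow Cfsg.Agent.BpExc.TowChev Cfsg.Agent.BpExc.Fr
  Cfsg.Agent.BpExc.LangFr Cfsg.Agent.LangThm Cfsg.Agent.BpExc Cfsg.Agent.H129.TorusChar Cfsg.Agent.H129.TorusCent
  Cfsg.Agent.H129.TorusTw Cfsg.Agent.H129.TorusMain Cfsg.Agent.H129.TorusUntw Cfsg.Agent.H129.WForm
  Cfsg.Agent.H720.TorusReal Cfsg.Agent.H129
open Cfsg.Agent.H238 Cfsg.Agent.H238.SL2Key
open Matrix (SpecialLinearGroup)

universe u v

/-! ### the form -/

theorem A7_symm : ∀ i j, A7 i j = A7 j i := by decide +kernel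

theorem ip_add_left (x x' y : V) : ip (x + x') y = ip x y + ip x' y := by
  unfold ip
  simp only [Pi.add_apply, mul_add, Finset.sum_add_distrib]

theorem ip_smul_left (m : ℤ) (x y : V) : ip (m • x) y = m * ip x y := by
  unfold ip
  simp only [Pi.smul_apply, smul_eq_mul, Finset.mul_sum]
  refine Finset.sum_congr rfl fun i _ => Finset.sum_congr rfl fun j _ => ?_
  ring

theorem ip_comm (x y : V) : ip x y = ip y x := by
  unfold ip
  simp only [Finset.mul_sum]
  rw [Finset.sum_comm]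
  refine Finset.sum_congr rfl fun i _ => Finset.sum_congr rfl fun j _ => ?_
  rw [A7_symm]
  ring

theorem ip_comb (a b : V) (m n : ℕ) : ip (m • a + n • b) (m • a + n • b) =
    m ^ 2 * ip a a + 2 * m * n * ip a b + n ^ 2 * ip b b := by
  rw [← natCast_zsmul, ← natCast_zsmul, ip_add_left, ip_smul_left, ip_smul_left, ip_comm a, ip_comm b, ip_add_left,
    ip_add_left, ip_smul_left, ip_smul_left, ip_smul_left, ip_smul_left, ip_comm b a]
  ring

theorem ip_self {W : Type*} [Group W] [Finite W] (cs : CoxeterSystem CoxeterMatrix.E₇ W) {x : V}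
    (hx : IsRoot cs hp7.isCartan x) : ip x x = 2 := by
  rw [← cpr_ip (cs := cs) _ hx, cpr_self cs _ hx]

/-! ### the homomorphisms -/

section

variable (K : Type u) [Field K]

/-- The `SL₂` of a root. -/
noncomputable def phr (r : ℕ) : _root_.Matrix.SpecialLinearGroup (Fin 2) K →* ↥(chevE7.group K) := by
  classical
  exact if h : r < chevE7.nroots then Classical.choose (ExcCore.exists_sl2 (k := K) hp7
    CoxeterMatrix.E₇.toCoxeterSystem (isRoot_vec hp7 CoxeterMatrix.E₇.toCoxeterSystem h)) else 1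

theorem phr_spec {r : ℕ} (h : r < chevE7.nroots) :
    (∀ s, phr K r (U s) = xc hp7 (vec chevE7 7 r) s) ∧ (∀ s, phr K r (SL2Key.V s) = xc hp7 (-vec chevE7 7 r) s) ∧
      (phr K r).range ≤ XX chevE7 7 K (vec chevE7 7 r) ⊔ XX chevE7 7 K (-vec chevE7 7 r) := by
  unfold phr
  rw [dif_pos h]
  exact Classical.choose_spec (ExcCore.exists_sl2 (k := K) hp7
    CoxeterMatrix.E₇.toCoxeterSystem (isRoot_vec hp7 CoxeterMatrix.E₇.toCoxeterSystem h))

variable {K}

theorem mm_map {K' : Type v} [Field K'] (f : K →+* K') (g : _root_.Matrix.SpecialLinearGroup (Fin 2) K) (i j : Fin 2) :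
    mm (SpecialLinearGroup.map f g) i j = f (mm g i j) := rfl

theorem map_U {K' : Type v} [Field K'] (f : K →+* K') (s : K) : SpecialLinearGroup.map f (U s) = U (f s) := by
  refine ext2 ?_
  ext i j
  rw [mm_map, coe_U, coe_U]
  (revert i j; simp only [_root_.Fin.forall_fin_succ, _root_.Matrix.of_apply, _root_.Matrix.cons_val', _root_.Matrix.cons_val_fin_one, Fin.isValue, _root_.Matrix.cons_val_zero, _root_.Matrix.cons_val_succ, _root_.forall_const, _root_.map_one, _root_.and_self, _root_.map_zero, _root_.implies_true])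

theorem map_V {K' : Type v} [Field K'] (f : K →+* K') (s : K) :
    SpecialLinearGroup.map f (SL2Key.V s) = SL2Key.V (f s) := by
  refine ext2 ?_
  ext i j
  rw [mm_map, coe_V, coe_V]
  (revert i j; simp only [_root_.Fin.forall_fin_succ, _root_.Matrix.of_apply, _root_.Matrix.cons_val', _root_.Matrix.cons_val_fin_one, Fin.isValue, _root_.Matrix.cons_val_zero, _root_.Matrix.cons_val_succ, _root_.forall_const, _root_.map_one, _root_.map_zero, _root_.and_self, _root_.implies_true])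

/-- **Field embeddings.** -/
theorem emb_phr {K' : Type u} [Field K'] (f : K →+* K') {r : ℕ} (h : r < chevE7.nroots)
    (g : _root_.Matrix.SpecialLinearGroup (Fin 2) K) : emb hp7.inList f (phr K r g) = phr K' r (SpecialLinearGroup.map f g) := by
  have h1 : (emb hp7.inList f).comp (phr K r) = (phr K' r).comp (SpecialLinearGroup.map f) := by
    refine hom_ext (fun s => ?_) fun s => ?_
    · rw [MonoidHom.comp_apply, MonoidHom.comp_apply, (phr_spec K h).1, map_U, (phr_spec K' h).1, emb_xc]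
    · rw [MonoidHom.comp_apply, MonoidHom.comp_apply, (phr_spec K h).2.1, map_V, (phr_spec K' h).2.1, emb_xc]
  exact DFunLike.congr_fun h1 g

/-- **Orthogonal roots.** -/
theorem phr_comm {r s : ℕ} (hr : r < chevE7.nroots) (hs : s < chevE7.nroots)
    (h0 : ip (vec chevE7 7 r) (vec chevE7 7 s) = 0) (g h : _root_.Matrix.SpecialLinearGroup (Fin 2) K) :
    Commute (phr K r g) (phr K s h) := by
  have hfin := finite_W hp7 CoxeterMatrix.E₇.toCoxeterSystem
  have ha := isRoot_vec hp7 CoxeterMatrix.E₇.toCoxeterSystem hr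
  have hb := isRoot_vec hp7 CoxeterMatrix.E₇.toCoxeterSystem hs
  have haa := ip_self _ ha
  have hbb := ip_self _ hb
  refine ExcCore.commute_sup hp7 CoxeterMatrix.E₇.toCoxeterSystem ha hb ?_ ?_ ?_ ?_
    ((phr_spec K hr).2.2 ⟨g, rfl⟩) ((phr_spec K hs).2.2 ⟨h, rfl⟩)
  · intro e
    rw [e, hbb] at h0
    norm_num at h0
  · intro e
    have h1 := ip_smul_left (-1) (vec chevE7 7 s) (vec chevE7 7 s)
    rw [neg_one_smul, ← e, h0, hbb] at h1
    norm_num at h1
  · rw [cpr_ip (cs := CoxeterMatrix.E₇.toCoxeterSystem) _ ha, ip_comm, h0]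
  · intro m n hm hn hroot
    have h1 := ip_self _ hroot
    rw [ip_comb, h0, haa, hbb] at h1
    have h2 : (1 : ℤ) ≤ m := by exact_mod_cast hm
    have h3 : (1 : ℤ) ≤ n := by exact_mod_cast hn
    nlinarith only [hm, hn, h1]

/-- **The diagonal elements.** -/
theorem phr_H {r : ℕ} (hr : r < chevE7.nroots) {s : K} (hs : s ≠ 0) :
    phr K r (H s hs) ∈ TT chevE7 K ∧
      ∀ i : Fin 7, cX hp7 (phr K r (H s hs)) (sr i) = s ^ Strings.cartanR chevE7 r (chevE7.simple i) := by
  have hneg : chevE7.neg r < chevE7.nroots := neg_lt hp7.inList hr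
  have h1 : H s hs = U s * SL2Key.V (-s⁻¹) * U s * (U (-1) * SL2Key.V 1 * U (-1)) := by
    refine ext2 ?_
    rw [mm_mul, mm_mul, mm_mul, mm_mul, mm_mul, coe_H, coe_U, coe_U, coe_V, coe_V]
    ext i j
    (revert i j; simp only [Matrix.mul_apply, Fin.sum_univ_two, hs, _root_.Fin.forall_fin_succ, _root_.Matrix.of_apply, _root_.Matrix.cons_val', _root_.Matrix.cons_val_fin_one, _root_.Matrix.cons_mul, _root_.Nat.succ_eq_add_one, Nat.reduceAdd, _root_.Matrix.vecMul_cons, _root_.Matrix.head_cons, _root_.one_smul, _root_.Matrix.tail_cons, _root_.Matrix.smul_cons, _root_.smul_eq_mul, _root_.mul_neg, _root_.ne_eq, _root_.not_false_eq_true, _root_.mul_inv_cancel₀, _root_.mul_one, _root_.Matrix.smul_empty, _root_.Matrix.empty_vecMul, _root_.add_zero, _root_.Matrix.add_cons, _root_.add_neg_cancel, _root_.zero_add, _root_.Matrix.empty_add_empty, _root_.zero_smul, _root_.Matrix.empty_mul, _root_.Equiv.symm_apply_apply, _root_.MulZeroClass.mul_zero, _root_.neg_smul,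 _root_.inv_mul_cancel₀, _root_.Matrix.neg_cons, _root_.Matrix.neg_empty, _root_.neg_add_cancel, _root_.neg_zero, Fin.isValue, _root_.Matrix.cons_val_zero, _root_.Matrix.cons_val_one, _root_.Matrix.cons_val_succ, _root_.forall_const, _root_.true_and, _root_.neg_neg, _root_.implies_true, _root_.and_self])
  have h2 : ((phr K r (H s hs) : ↥(chevE7.group K)) : GL chevE7.Idx K) = hG hp7.inList r s := by
    rw [h1]
    simp only [map_mul, (phr_spec K hr).1, (phr_spec K hr).2.1, Subgroup.coe_mul, ← vec_neg hp7 hr, coe_xc hp7 hr,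
      coe_xc hp7 hneg]
    rw [hG_def, nG_def, nG_def, show (-(-1 : K)⁻¹) = 1 by norm_num]
    simp only [mul_assoc]
  have hT : phr K r (H s hs) ∈ TT chevE7 K := by
    rw [Subgroup.mem_subgroupOf, h2]
    exact hG_mem_diagonal hp7.inList hr hs
  refine ⟨hT, fun i => ?_⟩
  obtain ⟨c, hc, hmat, hact⟩ := Tor.exists_c hp7 (hG_mem_diagonal hp7.inList hr hs)
  rw [coe_hG, StringMem.hMat_eq hp7.inList hr hs] at hmat
  have hi : chevE7.simple i < chevE7.nroots := simple_lt hp7.inList (lt_rank hp7 i)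
  have h3 := congrFun (Matrix.diagonal_injective hmat) (Sum.inr ⟨chevE7.simple i, hi⟩)
  have h4 : s ^ Strings.cartanR chevE7 r (chevE7.simple i) =
      ∏ j ∈ Finset.range chevE7.rank, c j ^ chevE7.cartan j (chevE7.simple i) := h3
  rw [cX_sr, ← vec_simple hp7 i]
  apply ch_eq hp7 hi hT
  apply Subtype.ext
  rw [Subgroup.coe_mul, Subgroup.coe_mul, Subgroup.coe_inv, coe_xc hp7 hi, coe_xc hp7 hi, h2, hact _ hi, h4, mul_one]

/-! ### lists of orthogonal roots -/

/-- a list of orthogonal roots -/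
def OrthL (L : List ℕ) : Prop :=
  (∀ r ∈ L, r < chevE7.nroots) ∧ L.Pairwise fun r s => ip (vec chevE7 7 r) (vec chevE7 7 s) = 0

instance (L : List ℕ) : Decidable (OrthL L) := by unfold OrthL; infer_instance

/-- the product -/
noncomputable def PhiF (K : Type u) [Field K] (L : List ℕ) (g : _root_.Matrix.SpecialLinearGroup (Fin 2) K) : ↥(chevE7.group K) :=
  (L.map fun r => phr K r g).prod

theorem PhiF_cons (r : ℕ) (L : List ℕ) (g : _root_.Matrix.SpecialLinearGroup (Fin 2) K) :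
    PhiF K (r :: L) g = phr K r g * PhiF K L g := rfl

theorem PhiF_comm {r : ℕ} {L : List ℕ} (hr : r < chevE7.nroots) (hL : ∀ s ∈ L, s < chevE7.nroots)
    (h : ∀ s ∈ L, ip (vec chevE7 7 r) (vec chevE7 7 s) = 0) (g g' : _root_.Matrix.SpecialLinearGroup (Fin 2) K) :
    Commute (phr K r g) (PhiF K L g') := by
  induction L with
  | nil => exact Commute.one_right _
  | cons s L ih =>
    rw [PhiF_cons]
    exact (phr_comm hr (hL s List.mem_cons_self) (h s List.mem_cons_self) g g').mul_right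
      (ih (fun t ht => hL t (List.mem_cons_of_mem _ ht)) fun t ht => h t (List.mem_cons_of_mem _ ht))

theorem OrthL.tail {r : ℕ} {L : List ℕ} (h : OrthL (r :: L)) : OrthL L :=
  ⟨fun s hs => h.1 s (List.mem_cons_of_mem _ hs), (List.pairwise_cons.1 h.2).2⟩

theorem PhiF_mul {L : List ℕ} (hL : OrthL L) (g g' : _root_.Matrix.SpecialLinearGroup (Fin 2) K) :
    PhiF K L (g * g') = PhiF K L g * PhiF K L g' := by
  induction L with
  | nil => exact (mul_one _).symm
  | cons r L ih =>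
    rw [PhiF_cons, PhiF_cons, PhiF_cons, map_mul, ih hL.tail]
    have h1 := PhiF_comm (K := K) (hL.1 r List.mem_cons_self) hL.tail.1 (List.pairwise_cons.1 hL.2).1 g' g
    calc phr K r g * phr K r g' * (PhiF K L g * PhiF K L g')
        = phr K r g * (phr K r g' * PhiF K L g) * PhiF K L g' := by group
      _ = phr K r g * (PhiF K L g * phr K r g') * PhiF K L g' := by rw [h1.eq]
      _ = _ := by group

/-- **The diagonal `SL₂`.** -/
noncomputable def Phi (K : Type u) [Field K] {L : List ℕ} (hL : OrthL L) :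
    _root_.Matrix.SpecialLinearGroup (Fin 2) K →* ↥(chevE7.group K) where
  toFun := PhiF K L
  map_one' := by
    unfold PhiF
    have : (L.map fun r => phr K r (1 : _root_.Matrix.SpecialLinearGroup (Fin 2) K)) = L.map fun _ => 1 := by
      refine List.map_congr_left fun r _ => ?_
      rw [map_one]
    rw [this]
    simp
  map_mul' := PhiF_mul hL

theorem emb_Phi {K' : Type u} [Field K'] (f : K →+* K') {L : List ℕ} (hL : OrthL L)
    (g : _root_.Matrix.SpecialLinearGroup (Fin 2) K) : emb hp7.inList f (Phi K hL g) = Phi K' hL (SpecialLinearGroup.map f g) := by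
  show emb hp7.inList f (PhiF K L g) = PhiF K' L (SpecialLinearGroup.map f g)
  unfold PhiF
  rw [map_list_prod, List.map_map]
  congr 1
  refine List.map_congr_left fun r hr => ?_
  exact emb_phr f (hL.1 r hr) g

theorem Phi_H {L : List ℕ} (hL : OrthL L) {s : K} (hs : s ≠ 0) : Phi K hL (H s hs) ∈ TT chevE7 K ∧
    ∀ i : Fin 7, cX hp7 (Phi K hL (H s hs)) (sr i) =
      s ^ (L.map fun r => Strings.cartanR chevE7 r (chevE7.simple i)).sum := by
  show PhiF K L (H s hs) ∈ TT chevE7 K ∧ ∀ i : Fin 7, cX hp7 (PhiF K L (H s hs)) (sr i) =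
      s ^ (L.map fun r => Strings.cartanR chevE7 r (chevE7.simple i)).sum
  induction L with
  | nil =>
    refine ⟨one_mem _, fun i => ?_⟩
    show cX hp7 1 (sr i) = s ^ (0 : ℤ)
    rw [cX_one, zpow_zero]
  | cons r L ih =>
    obtain ⟨h1, h2⟩ := ih hL.tail
    obtain ⟨h3, h4⟩ := phr_H (K := K) (hL.1 r List.mem_cons_self) hs
    rw [PhiF_cons]
    refine ⟨mul_mem h3 h1, fun i => ?_⟩
    rw [cX_mul hp7 h3 h1, h4, h2, List.map_cons, List.sum_cons, zpow_add₀ hs]

end

end Cfsg.Agent.H351.UnfE7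
end

-- part: H351/UnfE7/Main
section
prune_inst 0x400400000000000000002001c428a00010200280000002008000588cd0200000120b8801010800222140038000000000150400000000a000c0001180080008800002000a000000000000084000000000000000000000000000000000000000000000
set_option linter.all false
open scoped Cfsg.Agent.FastGrp

/-!
# The classes of involutions of `E₇(q)`, `q` odd (helper351, S3026)

* `Cl j L` : the data of the classes `j = 1, 6`: a list `L` of orthogonal roots with `∑ a^∨ = 2 ω_j^∨`;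
* `conj_main` : an involution of `E₇(F)` conjugate over `k` to `t` with `Std k j t` is conjugate to `Phi F (m0 F)`;
* `conj_zero` : the class `j = 0`.
-/

set_option autoImplicit false
set_option linter.unusedSectionVars false

namespace Cfsg.Agent.H351.UnfE7

open CoxeterSystem Cfsg Cfsg.Lie Cfsg.Lie.ChevalleyDatum
open Cfsg.Agent.ChevalleyStructure Cfsg.Agent.ChevalleyStructure.Elts Cfsg.Agent.ChevalleyStructure.CoxeterGeom
  Cfsg.Agent.ChevalleyStructure.CoxeterGeomTypes Cfsg.Agent.ChevalleyStructure.NPerm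
open Cfsg.Agent.Tits.Roots Cfsg.Agent.Tits.Core Cfsg.Agent.Nodes Cfsg.Agent.Nodes.Reps Cfsg.Agent.Nodes.BNOf
  Cfsg.Agent.Nodes.RGDChev Cfsg.Agent.Nodes.Bruhat Cfsg.Agent.Nodes.SubComb Cfsg.Agent.Nodes.Coroot
open Cfsg.Agent.KFacts.RgdField Cfsg.Agent.KFacts.RgdChevCoord Cfsg.Agent.BpExc.TorCent Cfsg.Agent.BpExc.TorChev
open Cfsg.Agent.GpExc.Field Cfsg.Agent.BpExc.Tow Cfsg.Agent.BpExc.TowChev Cfsg.Agent.BpExc.Fr
  Cfsg.Agent.BpExc.LangFr Cfsg.Agent.LangThm Cfsg.Agent.BpExc Cfsg.Agent.H129.TorusChar Cfsg.Agent.H129.TorusCent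
  Cfsg.Agent.H129.TorusTw Cfsg.Agent.H129.TorusMain Cfsg.Agent.H129.TorusUntw Cfsg.Agent.H129.WForm
  Cfsg.Agent.H720.TorusReal Cfsg.Agent.H129
open Cfsg.Agent.H238 Cfsg.Agent.H238.SL2Key
open Matrix (SpecialLinearGroup)

universe u v

abbrev cs7 := CoxeterMatrix.E₇.toCoxeterSystem

/-- the data of the classes `j = 1, 6` -/
structure Cl (j : Fin 7) (L : List ℕ) : Prop where
  orth : OrthL L
  sum : ∀ i : Fin 7, (L.map fun r => Strings.cartanR chevE7 r (chevE7.simple i)).sum = if i = j then 2 else 0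
  two : ∀ {w₁ w₂ : CoxeterMatrix.E₇.Group}, Pres cs7 j w₁ → Pres cs7 j w₂ → w₁ = 1 ∨ w₂ = 1 ∨ w₁ = w₂
  gam : j = 1 ∨ j = 6

theorem cl1 : Cl 1 [78, 87, 92, 104, 107, 111, 112] where
  orth := by decide +kernel
  sum := by decide +kernel
  two h₁ h₂ := by
    have := finite_W hp7 cs7
    exact class1 h₁ h₂
  gam := Or.inl rfl

theorem cl6 : Cl 6 [63, 92, 125] where
  orth := by decide +kernel
  sum := by decide +kernel
  two h₁ h₂ := by
    have := finite_W hp7 cs7
    exact class6 h₁ h₂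
  gam := Or.inr rfl

section Gen

variable {K : Type u} [Field K] {j : Fin 7} {L : List ℕ} (C : Cl j L)

include C in
theorem Cl.H_cX {s : K} (hs : s ≠ 0) (i : Fin 7) : cX hp7 (Phi K C.orth (H s hs)) (sr i) = if i = j then s ^ 2 else 1 := by
  rw [(Phi_H C.orth hs).2, C.sum]
  split_ifs
  · norm_cast
  · exact zpow_zero s

include C in
theorem Cl.neg_one : Phi K C.orth (H (-1) (neg_ne_zero.2 one_ne_zero)) = 1 := by
  refine cX_inj hp7 (Phi_H C.orth _).1 (one_mem _) fun i => ?_
  rw [C.H_cX, cX_one]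
  split_ifs
  · norm_num
  · rfl

include C in
theorem Cl.phi_neg {g g' : _root_.Matrix.SpecialLinearGroup (Fin 2) K} (h : mm g' = -mm g) : Phi K C.orth g' = Phi K C.orth g := by
  have e : g' = H (-1) (neg_ne_zero.2 one_ne_zero) * g := by
    refine ext2 ?_
    rw [mm_mul, coe_H, h]
    ext i j
    (revert i j; simp only [Matrix.mul_apply, Fin.sum_univ_two, inv_neg, _root_.Fin.forall_fin_succ, _root_.Matrix.neg_apply, _root_.inv_one, _root_.Matrix.of_apply, _root_.Matrix.cons_val', _root_.Matrix.cons_val_fin_one, Fin.isValue, _root_.Matrix.cons_val_zero, _root_.Matrix.cons_val_one, _root_.Fin.succ_zero_eq_one, _root_.IsEmpty.forall_iff, _root_.and_true, _root_.neg_mul, _root_.one_mul, _root_.MulZeroClass.zero_mul, _root_.add_zero, _root_.and_self, _root_.Matrix.cons_val_succ, _root_.zero_add, _root_.neg_inj])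
  rw [e, map_mul, C.neg_one, one_mul]

end Gen

section Main

variable {k : Type u} [Field k] [IsAlgClosed k] {p e : ℕ} [Fact p.Prime] [CharP k p] {F : Type u} [Field F] [Fintype F]
  (f : F →+* k) {j : Fin 7} {L : List ℕ} (C : Cl j L)

theorem map_m0 : SpecialLinearGroup.map f (m0 F) = m0 k := by
  refine ext2 ?_
  ext i j
  rw [mm_map, coe_m0, coe_m0]
  (revert i j; simp only [_root_.Fin.forall_fin_succ, _root_.Matrix.of_apply, _root_.Matrix.cons_val', _root_.Matrix.cons_val_fin_one, Fin.isValue, _root_.Matrix.cons_val_zero, _root_.Matrix.cons_val_succ, _root_.forall_const, _root_.map_zero, _root_.map_neg, _root_.map_one, _root_.and_self, _root_.implies_true])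

theorem two_ne (hp2 : p ≠ 2) : (2 : k) ≠ 0 := by
  intro h1
  have h2 : ((2 : ℕ) : k) = 0 := by exact_mod_cast h1
  rw [CharP.cast_eq_zero_iff k p] at h2
  exact hp2 ((Nat.prime_dvd_prime_iff_eq Fact.out Nat.prime_two).1 h2)

include C in
/-- elements of trace zero -/
theorem Cl.std_of_trace (h2 : (2 : k) ≠ 0) {M : _root_.Matrix.SpecialLinearGroup (Fin 2) k} (hM : mm M 0 0 + mm M 1 1 = 0) :
    ∃ z : ↥(chevE7.group k), Std k j (z * Phi k C.orth M * z⁻¹) := by
  obtain ⟨a, ha⟩ := IsAlgClosed.exists_pow_nat_eq (-1 : k) (n := 2) (by norm_num)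
  have ha0 : a ≠ 0 := by
    rintro rfl
    norm_num at ha
  obtain ⟨P, hP⟩ := isConj_m0 h2 hM
  obtain ⟨Q, hQ⟩ := isConj_m0 h2 (M := H a ha0) (by
    rw [coe_H]
    have h1 : a⁻¹ = -a := by
      rw [inv_eq_iff_eq_inv, eq_comm]
      apply inv_eq_of_mul_eq_one_left
      linear_combination -ha
    simp [h1])
  refine ⟨Phi k C.orth (Q * P⁻¹), ?_⟩
  have e : Phi k C.orth (Q * P⁻¹) * Phi k C.orth M * (Phi k C.orth (Q * P⁻¹))⁻¹ = Phi k C.orth (H a ha0) := by
    rw [← map_mul, ← map_inv, ← map_mul]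
    congr 1
    rw [hP, hQ]
    group
  rw [e]
  refine ⟨(Phi_H C.orth ha0).1, fun i => ?_⟩
  rw [C.H_cX, ha]

theorem frob_map (hq : Fintype.card F = p ^ e) (a : F) : iterateFrobenius k p e (f a) = f a :=
  (frob_fix_iff f hq (f a)).2 ⟨a, rfl⟩

include C in
/-- `g = s⁻¹ A`, `A` over `F`, `s² ∈ F`: `Phi g` is fixed -/
theorem Cl.fixed (hq : Fintype.card F = p ^ e) {g : _root_.Matrix.SpecialLinearGroup (Fin 2) k} {A : Matrix (Fin 2) (Fin 2) F}
    {s : k} {ν : F} (hs : s ^ 2 = f ν) (hs0 : s ≠ 0) (hA : ∀ i j, s * mm g i j = f (A i j)) :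
    phi chevE7 k p e (Phi k C.orth g) = Phi k C.orth g := by
  rw [phi_eq hp7, emb_Phi]
  have h1 : iterateFrobenius k p e s = s ∨ iterateFrobenius k p e s = -s := by
    apply sq_eq_sq_iff_eq_or_eq_neg.1
    rw [← map_pow, hs, frob_map f hq]
  have h2 : ∀ i j, iterateFrobenius k p e s * iterateFrobenius k p e (mm g i j) = s * mm g i j := by
    intro i j
    rw [← map_mul, hA, frob_map f hq]
  rcases h1 with h1 | h1
  · congr 1
    refine ext2 ?_
    ext i j
    rw [mm_map]
    have h3 := h2 i j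
    rw [h1] at h3
    exact mul_left_cancel₀ hs0 h3
  · refine C.phi_neg ?_
    ext i j
    rw [mm_map, Matrix.neg_apply]
    have h3 := h2 i j
    rw [h1] at h3
    apply mul_left_cancel₀ hs0
    linear_combination -h3

include C in
/-- if moreover `s²` is not a square of `F`, then `Phi g` is not in the image of the finite group -/
theorem Cl.not_mem {g : _root_.Matrix.SpecialLinearGroup (Fin 2) k} {A : Matrix (Fin 2) (Fin 2) F}
    {s : k} {ν : F} (hs : s ^ 2 = f ν) (hs0 : s ≠ 0) (hA : ∀ i j, s * mm g i j = f (A i j)) (hν : ¬ IsSquare ν) :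
    Phi k C.orth g ∉ (emb hp7.inList f).range := by
  intro hmem
  have hν0 : ν ≠ 0 := by
    rintro rfl
    exact hν (IsSquare.zero)
  have hdet : mm g 0 0 * mm g 1 1 - mm g 0 1 * mm g 1 0 = 1 := by
    have := g.2
    rw [Matrix.det_fin_two] at this
    exact this
  have hdA : A 0 0 * A 1 1 - A 0 1 * A 1 0 = ν := by
    apply f.injective
    rw [map_sub, map_mul, map_mul, ← hA, ← hA, ← hA, ← hA, ← hs]
    linear_combination s ^ 2 * hdet
  obtain ⟨B, hB⟩ : ∃ B : _root_.Matrix.SpecialLinearGroup (Fin 2) F, mm B = !![A 0 0 * ν⁻¹, A 0 1; A 1 0 * ν⁻¹, A 1 1] := by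
    refine ⟨⟨!![A 0 0 * ν⁻¹, A 0 1; A 1 0 * ν⁻¹, A 1 1], ?_⟩, rfl⟩
    rw [Matrix.det_fin_two]
    simp
    field_simp
    linear_combination hdA
  have hfν : f ν ≠ 0 := by
    rw [← hs]
    exact pow_ne_zero 2 hs0
  have e1 : g = SpecialLinearGroup.map f B * H s hs0 := by
    refine ext2 ?_
    have e2 : mm (SpecialLinearGroup.map f B) = !![s * mm g 0 0 * (f ν)⁻¹, s * mm g 0 1; s * mm g 1 0 * (f ν)⁻¹, s * mm g 1 1] := by
      ext i j
      rw [mm_map, hB, hA, hA, hA, hA]
      (revert i j; simp only [_root_.Fin.forall_fin_succ, Fin.isValue, _root_.Matrix.of_apply, _root_.Matrix.cons_val', _root_.Matrix.cons_val_fin_one, _root_.Matrix.cons_val_zero, _root_.Matrix.cons_val_succ, _root_.forall_const, _root_.map_mul, _root_.map_inv₀, _root_.and_self, _root_.implies_true])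
    rw [mm_mul, e2, coe_H, ← hs]
    ext i j
    (revert i j; simp only [Matrix.mul_apply, Fin.sum_univ_two, _root_.Fin.forall_fin_succ, Fin.isValue, _root_.Matrix.of_apply, _root_.Matrix.cons_val', _root_.Matrix.cons_val_fin_one, _root_.Matrix.cons_val_zero, _root_.Matrix.cons_val_one, _root_.MulZeroClass.mul_zero, _root_.add_zero, _root_.Matrix.cons_val_succ, _root_.zero_add, _root_.Fin.succ_zero_eq_one, _root_.IsEmpty.forall_iff, _root_.and_true, _root_.true_and]) <;> (repeat' with_reducible apply And.intro)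
    · field_simp
    · field_simp
    · field_simp
    · field_simp
  have h1 : Phi k C.orth (H s hs0) ∈ (emb hp7.inList f).range := by
    have h2 : Phi k C.orth (H s hs0) = (emb hp7.inList f (Phi F C.orth B))⁻¹ * Phi k C.orth g := by
      rw [emb_Phi, e1, map_mul]
      group
    rw [h2]
    exact mul_mem (inv_mem ⟨_, rfl⟩) hmem
  obtain ⟨b, hb⟩ := parity f (Phi_H C.orth hs0).1 h1
  apply hν
  refine ⟨b, ?_⟩
  apply f.injective
  rw [map_mul, ← pow_two, ← hb, C.H_cX, C.H_cX, C.H_cX, ← hs]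
  rcases C.gam with rfl | rfl <;> simp

include C in
/-- **The classes `j = 1, 6`.** -/
theorem Cl.conj_main (hk : LocFin k) (hp2 : p ≠ 2) (he : 0 < e) (hq : Fintype.card F = p ^ e)
    {x : ↥(chevE7.group F)} {z : ↥(chevE7.group k)} (hz : Std k j (z * emb hp7.inList f x * z⁻¹)) :
    IsConj (Phi F C.orth (m0 F)) x := by
  have hpp : p.Prime := Fact.out
  have hW := finite_W hp7 cs7
  have h2k := two_ne (k := k) hp2
  have hodd : Odd (Fintype.card F) := by rw [hq]; exact (hpp.odd_of_ne_two hp2).pow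
  have h2F : (2 : F) ≠ 0 := by
    intro h
    apply h2k
    have := congrArg f h
    rwa [map_ofNat, map_zero] at this
  have hcF : ringChar F ≠ 2 := by
    intro h
    apply h2F
    have := ringChar.Nat.cast_ringChar (R := F)
    rw [h] at this
    exact_mod_cast this
  obtain ⟨ν, hν⟩ := FiniteField.exists_nonsquare hcF
  have hν0 : ν ≠ 0 := by
    rintro rfl
    exact hν (IsSquare.zero)
  obtain ⟨s, hs⟩ := IsAlgClosed.exists_pow_nat_eq (f ν) (n := 2) (by norm_num)
  have hs0 : s ≠ 0 := by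
    rintro rfl
    rw [zero_pow (by norm_num)] at hs
    exact hν0 ((map_eq_zero f).1 hs.symm)
  set σ := phi chevE7 k p e with hσdef
  have hσ : IsFrob p e σ := isFrob_phi
  have hF := fr_phi (k := k) (p := p) (e := e) hp7 cs7
  -- the element `y`
  obtain ⟨y0, hy0⟩ : ∃ y0, y0 = Phi F C.orth (m0 F) := ⟨_, rfl⟩
  have hy : emb hp7.inList f y0 = Phi k C.orth (m0 k) := by rw [hy0, emb_Phi, map_m0]
  obtain ⟨zy, hzy⟩ := C.std_of_trace h2k (M := m0 k) (by rw [coe_m0]; simp)
  rw [← hy] at hzy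
  -- the element `y'`
  obtain ⟨g', hg'⟩ : ∃ g' : _root_.Matrix.SpecialLinearGroup (Fin 2) k, mm g' = !![0, -s; s⁻¹, 0] :=
    ⟨⟨!![0, -s; s⁻¹, 0], by simp [Matrix.det_fin_two, hs0]⟩, rfl⟩
  have hA' : ∀ i j, s * mm g' i j = f ((!![0, -ν; 1, 0] : Matrix (Fin 2) (Fin 2) F) i j) := by
    intro i j
    rw [hg']
    (revert i j; simp only [hs0, _root_.Fin.forall_fin_succ, _root_.Matrix.of_apply, _root_.Matrix.cons_val', _root_.Matrix.cons_val_fin_one, Fin.isValue, _root_.Matrix.cons_val_zero, _root_.Matrix.cons_val_succ, _root_.forall_const, _root_.MulZeroClass.mul_zero, _root_.map_zero, _root_.mul_neg, _root_.map_neg, _root_.neg_inj, _root_.ne_eq, _root_.not_false_eq_true, _root_.mul_inv_cancel₀, _root_.map_one, _root_.implies_true, _root_.and_true, _root_.true_and]) <;> (repeat' with_reducible apply And.intro)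
    rw [← hs]; ring
  obtain ⟨zy', hzy'⟩ := C.std_of_trace h2k (M := g') (by rw [hg']; simp)
  have hfix' := C.fixed f hq hs hs0 hA'
  have hnm' := C.not_mem f hs hs0 hA' hν
  -- the element `r`
  obtain ⟨a, b, hab⟩ := sum_sq h2F ν
  obtain ⟨gr, hgr⟩ : ∃ gr : _root_.Matrix.SpecialLinearGroup (Fin 2) k, mm gr = !![s⁻¹ * f a, -(s⁻¹ * f b); s⁻¹ * f b, s⁻¹ * f a] := by
    refine ⟨⟨!![s⁻¹ * f a, -(s⁻¹ * f b); s⁻¹ * f b, s⁻¹ * f a], ?_⟩, rfl⟩
    have h1 : f a ^ 2 + f b ^ 2 = s ^ 2 := by rw [hs, ← hab, map_add, map_pow, map_pow]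
    rw [Matrix.det_fin_two]
    simp only [_root_.Fin.isValue, _root_.Matrix.of_apply, _root_.Matrix.cons_val', _root_.Matrix.cons_val_zero, _root_.Matrix.cons_val_fin_one, _root_.Matrix.cons_val_one, _root_.neg_mul, _root_.sub_neg_eq_add]
    field_simp
    linear_combination h1
  have hAr : ∀ i j, s * mm gr i j = f ((!![a, -b; b, a] : Matrix (Fin 2) (Fin 2) F) i j) := by
    intro i j
    rw [hgr]
    (revert i j; simp only [hs0, _root_.Fin.forall_fin_succ, _root_.Matrix.of_apply, _root_.Matrix.cons_val', _root_.Matrix.cons_val_fin_one, Fin.isValue, _root_.Matrix.cons_val_zero, _root_.Matrix.cons_val_succ, _root_.forall_const, _root_.ne_eq, _root_.not_false_eq_true, _root_.mul_inv_cancel_left₀, _root_.mul_neg, _root_.map_neg, _root_.and_self, _root_.implies_true])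
  have hfixr := C.fixed f hq hs hs0 hAr
  have hnmr := C.not_mem f hs hs0 hAr hν
  have hcomm : Phi k C.orth gr * emb hp7.inList f y0 = emb hp7.inList f y0 * Phi k C.orth gr := by
    rw [hy, ← map_mul, ← map_mul]
    congr 1
    refine ext2 ?_
    rw [mm_mul, mm_mul, hgr, coe_m0]
    ext i j
    (revert i j; simp only [Matrix.mul_apply, Fin.sum_univ_two, _root_.Fin.forall_fin_succ, _root_.Matrix.of_apply, _root_.Matrix.cons_val', _root_.Matrix.cons_val_fin_one, Fin.isValue, _root_.Matrix.cons_val_zero, _root_.Matrix.cons_val_one, _root_.MulZeroClass.mul_zero, _root_.mul_one, _root_.zero_add, _root_.Matrix.cons_val_succ, _root_.mul_neg, _root_.add_zero, _root_.forall_const, _root_.MulZeroClass.zero_mul, _root_.neg_mul, _root_.one_mul, _root_.neg_zero, _root_.and_self, _root_.implies_true])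
  -- the reduced pairs
  obtain ⟨wx, cx, Rx⟩ := exists_pair cs7 hk hp2 he hσ hF (phi_emb hp7 f hq x) hz
  obtain ⟨wy, cy, Ry⟩ := exists_pair cs7 hk hp2 he hσ hF (phi_emb hp7 f hq y0) hzy
  obtain ⟨wy', cy', Ry'⟩ := exists_pair cs7 hk hp2 he hσ hF hfix' hzy'
  rw [hz.eq hzy] at Rx
  rw [hzy'.eq hzy] at Ry'
  -- conjugates of elements of the image are in the image
  have hnorm : ∀ a : ↥(chevE7.group k), σ a = a → ∀ w : ↥(chevE7.group F),
      a * emb hp7.inList f w * a⁻¹ ∈ (emb hp7.inList f).range := fun a ha w =>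
    Emb.conj_mem_range (F := F) (hD := hp7.inList) (f := f) (φ := iterateFrobenius k p e)
      (fun t => by rw [iterateFrobenius_def, hq]) (σ := phi chevE7 k p e) coe_phi ha ⟨w, rfl⟩
  have hne : wy ≠ wy' := by
    intro h
    subst h
    obtain ⟨a, ha, h1⟩ := fixed_conj cs7 hk he hσ Ry' Ry
    exact hnm' (by rw [← h1]; exact hnorm a ha y0)
  have hnex : wx ≠ wy' := by
    intro h
    subst h
    obtain ⟨a, ha, h1⟩ := fixed_conj cs7 hk he hσ Ry' Rx
    exact hnm' (by rw [← h1]; exact hnorm a ha x)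
  have hw : wx = wy := by
    rcases C.two Rx.pres Ry.pres with h | h | h
    · rcases C.two Ry.pres Ry'.pres with h' | h' | h'
      · rw [h, h']
      · exact absurd (h.trans h'.symm) hnex
      · exact absurd h' hne
    · rcases C.two Rx.pres Ry'.pres with h' | h' | h'
      · rw [h, h']
      · exact absurd (h.trans h'.symm) hne
      · exact absurd h' hnex
    · exact h
  subst hw
  obtain ⟨a, ha, h1⟩ := fixed_conj cs7 hk he hσ Rx Ry
  have hinj := emb_injective hp7.inList f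
  rw [← hy0]
  by_cases hmem : a ∈ (emb hp7.inList f).range
  · obtain ⟨a0, rfl⟩ := hmem
    refine isConj_iff.2 ⟨a0, hinj ?_⟩
    rw [map_mul, map_mul, map_inv, h1]
  · obtain ⟨a0, ha0⟩ := mul_mem_range7 f hq hodd ha hfixr hmem hnmr
    refine isConj_iff.2 ⟨a0, hinj ?_⟩
    rw [map_mul, map_mul, map_inv, ha0]
    calc a * Phi k C.orth gr * emb hp7.inList f y0 * (a * Phi k C.orth gr)⁻¹
        = a * (Phi k C.orth gr * emb hp7.inList f y0) * (Phi k C.orth gr)⁻¹ * a⁻¹ := by group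
      _ = a * emb hp7.inList f y0 * a⁻¹ := by rw [hcomm]; group
      _ = _ := h1

end Main

end Cfsg.Agent.H351.UnfE7

private theorem dce_d6d2c7ef1689 : _root_.True := by
  try have : _root_.True := by simp only [_root_.Cfsg.Agent.H238.SL2Key.H.congr_simp]
  try have : _root_.True := by simp only [_root_.Cfsg.Agent.H351.UnfE7.Phi.congr_simp]
  exact _root_.True.intro
end

-- part: H351/UnfE7/Zero
section
prune_inst 0x20004400400002000000000002001c6282000100000800000020000005c8cc0209000020b8101010800000144038000000000100400000000a000c0001190080008240022200a10424008e800080000000000000000000000000000000000000000000000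
set_option linter.all false
open scoped Cfsg.Agent.FastGrp

/-!
# The class `j = 0` of involutions of `E₇(q)`, `q` odd (helper351, S3026)

* `conj_zero` : an involution of `E₇(F)` conjugate over `k` to `t` with `Std k 0 t` is conjugate to `t0 F`;
* `conj_mask` : the same for torus elements given by their mask.
-/

set_option autoImplicit false
set_option linter.unusedSectionVars false

namespace Cfsg.Agent.H351.UnfE7

open CoxeterSystem Cfsg Cfsg.Lie Cfsg.Lie.ChevalleyDatum
open Cfsg.Agent.ChevalleyStructure Cfsg.Agent.ChevalleyStructure.Elts Cfsg.Agent.ChevalleyStructure.CoxeterGeom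
  Cfsg.Agent.ChevalleyStructure.CoxeterGeomTypes Cfsg.Agent.ChevalleyStructure.NPerm
open Cfsg.Agent.Tits.Roots Cfsg.Agent.Tits.Core Cfsg.Agent.Nodes Cfsg.Agent.Nodes.Reps Cfsg.Agent.Nodes.BNOf
  Cfsg.Agent.Nodes.RGDChev Cfsg.Agent.Nodes.Bruhat Cfsg.Agent.Nodes.SubComb Cfsg.Agent.Nodes.Coroot
open Cfsg.Agent.KFacts.RgdField Cfsg.Agent.KFacts.RgdChevCoord Cfsg.Agent.BpExc.TorCent Cfsg.Agent.BpExc.TorChev
open Cfsg.Agent.GpExc.Field Cfsg.Agent.BpExc.Tow Cfsg.Agent.BpExc.TowChev Cfsg.Agent.BpExc.Fr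
  Cfsg.Agent.BpExc.LangFr Cfsg.Agent.LangThm Cfsg.Agent.BpExc Cfsg.Agent.H129.TorusChar Cfsg.Agent.H129.TorusCent
  Cfsg.Agent.H129.TorusTw Cfsg.Agent.H129.TorusMain Cfsg.Agent.H129.TorusUntw Cfsg.Agent.H129.WForm
  Cfsg.Agent.H720.TorusReal Cfsg.Agent.H129
open Cfsg.Agent.H238 Cfsg.Agent.H238.SL2Key
open Matrix (SpecialLinearGroup)

universe u v

/-- the involution of the root with index `r` -/
noncomputable def tr (K : Type u) [Field K] (r : ℕ) : ↥(chevE7.group K) :=
  phr K r (H (-1) (neg_ne_zero.2 one_ne_zero))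

theorem map_H {K : Type u} [Field K] {K' : Type v} [Field K'] (f : K →+* K') :
    SpecialLinearGroup.map f (H (-1) (neg_ne_zero.2 one_ne_zero)) = H (-1 : K') (neg_ne_zero.2 one_ne_zero) := by
  refine ext2 ?_
  ext i j
  rw [mm_map, coe_H, coe_H]
  (revert i j; simp only [_root_.Fin.forall_fin_succ, _root_.inv_neg, _root_.inv_one, _root_.Matrix.of_apply, _root_.Matrix.cons_val', _root_.Matrix.cons_val_fin_one, Fin.isValue, _root_.Matrix.cons_val_zero, _root_.Matrix.cons_val_succ, _root_.forall_const, _root_.map_neg, _root_.map_one, _root_.map_zero, _root_.and_self, _root_.implies_true])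

theorem emb_tr {K : Type u} [Field K] {K' : Type u} [Field K'] (f : K →+* K') {r : ℕ} (h : r < chevE7.nroots) :
    emb hp7.inList f (tr K r) = tr K' r := by
  unfold tr
  rw [emb_phr f h, map_H]

theorem tr_mask {K : Type u} [Field K] {r m : ℕ} (h : r < chevE7.nroots)
    (hm : ∀ i : Fin 7, (Strings.cartanR chevE7 r (chevE7.simple i) % 2 = 1) ↔ m.testBit i = true) :
    HasMask (tr K r) m := by
  obtain ⟨h1, h2⟩ := phr_H (K := K) h (s := -1) (neg_ne_zero.2 one_ne_zero)
  refine ⟨h1, fun i => ?_⟩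
  have h3 : cX hp7 (tr K r) (sr i) = (-1) ^ Strings.cartanR chevE7 r (chevE7.simple i) := h2 i
  rw [h3, neg_one_zpow_mod]
  exact if_congr (hm i) rfl rfl

theorem HasMask.mul {K : Type u} [Field K] {s t : ↥(chevE7.group K)} {a b c : ℕ} (hs : HasMask s a) (ht : HasMask t b)
    (hc : ∀ i : Fin 7, c.testBit i = (a.testBit i ^^ b.testBit i)) : HasMask (s * t) c := by
  refine ⟨mul_mem hs.1 ht.1, fun i => ?_⟩
  rw [cX_mul hp7 hs.1 ht.1, hs.2, ht.2, hc]
  cases a.testBit (i : ℕ) <;> cases b.testBit (i : ℕ) <;> simp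

/-- iterating the moves -/
theorem HasMask.iter {K : Type u} [Field K] (hk : LocFin K) (p : ℕ) [Fact p.Prime] [CharP K p]
    {t : ↥(chevE7.group K)} {m : ℕ} (hlt : m < 128) (h0 : HasMask t m) (n : ℕ) : ∃ g : ↥(chevE7.group K),
      (fun m => mv (nxt m) m)^[n] m < 128 ∧ HasMask (g * t * g⁻¹) ((fun m => mv (nxt m) m)^[n] m) := by
  induction n with
  | zero => exact ⟨1, hlt, by simpa using h0⟩
  | succ n ih =>
    obtain ⟨g, hg, h5⟩ := ih
    rw [Function.iterate_succ_apply']
    refine ⟨nc hp7 K (nxt ((fun m => mv (nxt m) m)^[n] m)) * g, mv_lt _ hg _, ?_⟩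
    have h6 := h5.step CoxeterMatrix.E₇.toCoxeterSystem hk p hg (nxt ((fun m => mv (nxt m) m)^[n] m))
    rw [show ∀ n g : ↥(chevE7.group K), n * g * t * (n * g)⁻¹ = n * (g * t * g⁻¹) * n⁻¹ by intros; group]
    exact h6

section Main

variable {k : Type u} [Field k] [IsAlgClosed k] {p e : ℕ} [Fact p.Prime] [CharP k p] {F : Type u} [Field F] [Fintype F]
  (f : F →+* k)

/-- **The class `j = 0`.** -/
theorem conj_zero (hk : LocFin k) (hp2 : p ≠ 2) (he : 0 < e) (hq : Fintype.card F = p ^ e)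
    {x : ↥(chevE7.group F)} {z : ↥(chevE7.group k)} (hz : Std k 0 (z * emb hp7.inList f x * z⁻¹)) :
    IsConj (tr F 125) x := by
  have hW := finite_W hp7 cs7
  set σ := phi chevE7 k p e with hσdef
  have hσ : IsFrob p e σ := isFrob_phi
  have hF := fr_phi (k := k) (p := p) (e := e) hp7 cs7
  have hlt : 125 < chevE7.nroots := by decide
  have hm : HasMask (emb hp7.inList f (tr F 125)) 1 := by
    rw [emb_tr f hlt]
    exact tr_mask hlt (by decide +kernel)
  have hst : Std k 0 (emb hp7.inList f (tr F 125)) := hm.std 0 rfl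
  have hzy : Std k 0 (1 * emb hp7.inList f (tr F 125) * 1⁻¹) := by
    rw [one_mul, inv_one, mul_one]
    exact hst
  obtain ⟨wx, cx, Rx⟩ := exists_pair cs7 hk hp2 he hσ hF (phi_emb hp7 f hq x) hz
  obtain ⟨wy, cy, Ry⟩ := exists_pair cs7 hk hp2 he hσ hF (phi_emb hp7 f hq (tr F 125)) hzy
  rw [hz.eq hzy] at Rx
  obtain rfl := class0 Rx.pres
  obtain rfl := class0 Ry.pres
  obtain ⟨a, ha, h1⟩ := fixed_conj cs7 hk he hσ Rx Ry
  obtain ⟨a0, s, hs, rfl⟩ := fix_split hp7 f hq ha
  have hinj := emb_injective hp7.inList f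
  refine isConj_iff.2 ⟨a0, hinj ?_⟩
  rw [map_mul, map_mul, map_inv, ← h1]
  have h2 : s * emb hp7.inList f (tr F 125) = emb hp7.inList f (tr F 125) * s := _root_.Cfsg.Agent.H720.TorusReal.TT_comm hp7 hs hst.1
  calc emb hp7.inList f a0 * emb hp7.inList f (tr F 125) * (emb hp7.inList f a0)⁻¹
      = emb hp7.inList f a0 * (emb hp7.inList f (tr F 125) * s) * s⁻¹ * (emb hp7.inList f a0)⁻¹ := by group
    _ = emb hp7.inList f a0 * (s * emb hp7.inList f (tr F 125)) * s⁻¹ * (emb hp7.inList f a0)⁻¹ := by rw [h2]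
    _ = _ := by group

theorem conj_mask (hk : LocFin k) (hp2 : p ≠ 2) (he : 0 < e) (hq : Fintype.card F = p ^ e)
    {x : ↥(chevE7.group F)} {m : ℕ} (hm : m < 128) (hx : HasMask (emb hp7.inList f x) m)
    (h : (fun m => mv (nxt m) m)^[16] m = 1) : IsConj (tr F 125) x := by
  obtain ⟨g, -, h1⟩ := hx.iter hk p hm 16
  rw [h] at h1
  exact conj_zero f hk hp2 he hq (h1.std 0 rfl)

include f in
/-- **A pure four-group of the class `j = 0`.** -/
theorem four_zero (hk : LocFin k) (hp2 : p ≠ 2) (he : 0 < e) (hq : Fintype.card F = p ^ e) :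
    ∃ a b : ↥(chevE7.group F), a * b = b * a ∧ IsConj (tr F 125) a ∧ IsConj (tr F 125) b ∧
      IsConj (tr F 125) (a * b) := by
  have h93 : 93 < chevE7.nroots := by decide
  have h73 : 73 < chevE7.nroots := by decide
  have ha : HasMask (emb hp7.inList f (tr F 93)) 4 := by
    rw [emb_tr f h93]
    exact tr_mask h93 (by decide +kernel)
  have hb : HasMask (emb hp7.inList f (tr F 73)) 9 := by
    rw [emb_tr f h73]
    exact tr_mask h73 (by decide +kernel)
  have hab : HasMask (emb hp7.inList f (tr F 93 * tr F 73)) 13 := by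
    rw [map_mul]
    exact ha.mul hb (by decide +kernel)
  refine ⟨tr F 93, tr F 73, ?_, ?_, ?_, ?_⟩
  · apply emb_injective hp7.inList f
    rw [map_mul, map_mul]
    exact _root_.Cfsg.Agent.H720.TorusReal.TT_comm hp7 ha.1 hb.1
  · exact conj_mask f hk hp2 he hq (by norm_num) ha (by decide +kernel)
  · exact conj_mask f hk hp2 he hq (by norm_num) hb (by decide +kernel)
  · exact conj_mask f hk hp2 he hq (by norm_num) hab (by decide +kernel)

include f in
/-- **A pure four-group of the classes `j = 1, 6`.** -/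
theorem Cl.four {j : Fin 7} {L : List ℕ} (C : Cl j L) (hk : LocFin k) (hp2 : p ≠ 2) (he : 0 < e)
    (hq : Fintype.card F = p ^ e) : ∃ a b : ↥(chevE7.group F), a * b = b * a ∧ IsConj (Phi F C.orth (m0 F)) a ∧
      IsConj (Phi F C.orth (m0 F)) b ∧ IsConj (Phi F C.orth (m0 F)) (a * b) := by
  have h2k := two_ne (k := k) hp2
  have h2F : (2 : F) ≠ 0 := by
    intro h
    apply h2k
    have := congrArg f h
    rwa [map_ofNat, map_zero] at this
  have key : ∀ M : _root_.Matrix.SpecialLinearGroup (Fin 2) F, mm M 0 0 + mm M 1 1 = 0 →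
      IsConj (Phi F C.orth (m0 F)) (Phi F C.orth M) := by
    intro M hM
    obtain ⟨z, hz⟩ := C.std_of_trace (k := k) h2k (M := SpecialLinearGroup.map f M) (by
      rw [mm_map, mm_map, ← map_add, hM, map_zero])
    rw [← emb_Phi] at hz
    exact C.conj_main f hk hp2 he hq hz
  obtain ⟨a, b, hab⟩ := sum_sq h2F (-1 : F)
  obtain ⟨M, hM⟩ : ∃ M : _root_.Matrix.SpecialLinearGroup (Fin 2) F, mm M = !![a, b; b, -a] := by
    refine ⟨⟨!![a, b; b, -a], ?_⟩, rfl⟩
    rw [Matrix.det_fin_two]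
    simp
    linear_combination -hab
  have e1 : mm (M * m0 F) = -mm (m0 F * M) := by
    rw [mm_mul, mm_mul, hM, coe_m0]
    ext i j
    (revert i j; simp only [Matrix.mul_apply, Fin.sum_univ_two, _root_.Fin.forall_fin_succ, _root_.Matrix.of_apply, _root_.Matrix.cons_val', _root_.Matrix.cons_val_fin_one, Fin.isValue, _root_.Matrix.cons_val_zero, _root_.Matrix.cons_val_one, _root_.Matrix.cons_mul, _root_.Nat.succ_eq_add_one, Nat.reduceAdd, _root_.Matrix.vecMul_cons, _root_.Matrix.head_cons, _root_.zero_smul, _root_.Matrix.tail_cons, _root_.neg_smul, _root_.one_smul, _root_.Matrix.neg_cons, _root_.neg_neg, _root_.Matrix.neg_empty, _root_.Matrix.empty_vecMul, _root_.add_zero, _root_.zero_add, _root_.Matrix.empty_mul, _root_.Equiv.symm_apply_apply, _root_.Matrix.neg_apply, _root_.MulZeroClass.mul_zero, _root_.mul_one, _root_.Matrix.cons_val_succ, _root_.mul_neg, _root_.implies_true, _root_.and_true, _root_.and_self])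
  refine ⟨Phi F C.orth (m0 F), Phi F C.orth M, ?_, IsConj.refl _, key M ?_, ?_⟩
  · rw [← map_mul, ← map_mul]
    exact (C.phi_neg e1).symm
  · rw [hM]; simp
  · rw [← map_mul]
    refine key _ ?_
    rw [mm_mul, hM, coe_m0]
    simp [Matrix.mul_apply, Fin.sum_univ_two]

end Main

end Cfsg.Agent.H351.UnfE7
end

-- part: H216/Unf/PslEven_mg
section

end
end
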